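import Cfsg.Agent.Lib.TIInv.CaseA1
import Cfsg.Agent.Lib.Zass.Classif

/-!
The case `|M| = q + 1`, `|C(z)| = q`, `|G| = (q+1) q (q-1)`: the group `C(z)` has a strongly
embedded normaliser, and `G` acts sharply 3-transitively on its `q + 1` conjugates.
-/

set_option autoImplicit false
set_option linter.unusedSectionVars false
set_option linter.style.haveILetI false
set_option linter.unusedVariables false

namespace Cfsg.Agent.Lib.TIInv

open Cfsg.Agent.Lib.FPF.Basic Cfsg.Agent.Lib.Zass.Sharp3 Cfsg.Agent.Lib.Zass.Root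

section General

/-- A group of the right order acting with trivial three-point stabilisers is sharply
three-transitive. -/
theorem sharp3_of_card {G Ω : Type*} [Group G] [Finite G] [MulAction G Ω] [Finite Ω]
    (sharp : ∀ (g : G) (a b c : Ω), a ≠ b → b ≠ c → a ≠ c → g • a = a → g • b = b → g • c = c → g = 1)
    (hcard : Nat.card G = Nat.card Ω * (Nat.card Ω - 1) * (Nat.card Ω - 2)) : Sharp3 G Ω := by
  classical
  haveI := Fintype.ofFinite Ω
  refine ⟨?_, sharp⟩
  intro a b c a' b' c' hab hbc hac hab' hbc' hac'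
  let t : Fin 3 ↪ Ω := ⟨![a, b, c], by
    intro i j hij
    fin_cases i <;> fin_cases j <;> simp_all⟩
  let t' : Fin 3 ↪ Ω := ⟨![a', b', c'], by
    intro i j hij
    fin_cases i <;> fin_cases j <;> simp_all⟩
  let Φ : G → (Fin 3 ↪ Ω) := fun g => ⟨fun i => g • t i, by
    intro i j hij
    exact t.injective (MulAction.injective g hij)⟩
  have hΦ : Function.Injective Φ := by
    intro g g' e
    have hfix : ∀ i, (g'⁻¹ * g) • t i = t i := by
      intro i
      have h1 : g • t i = g' • t i := congrArg (fun w : Fin 3 ↪ Ω => w i) e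
      rw [mul_smul, h1, inv_smul_smul]
    have h2 := sharp (g'⁻¹ * g) a b c hab hbc hac (hfix 0) (hfix 1) (hfix 2)
    rw [inv_mul_eq_one] at h2
    exact h2.symm
  have hb : Function.Bijective Φ := hΦ.bijective_of_nat_card_le (by
    rw [hcard, Nat.card_eq_fintype_card (α := Fin 3 ↪ Ω), Fintype.card_embedding_eq,
      Fintype.card_fin, Nat.card_eq_fintype_card]
    simp only [Nat.descFactorial_succ, Nat.descFactorial_zero]
    apply le_of_eq
    simp only [Nat.sub_zero]
    ring)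
  obtain ⟨g, hg⟩ := hb.2 t'
  refine ⟨g, ?_, ?_, ?_⟩
  · exact congrArg (fun w : Fin 3 ↪ Ω => w 0) hg
  · exact congrArg (fun w : Fin 3 ↪ Ω => w 1) hg
  · exact congrArg (fun w : Fin 3 ↪ Ω => w 2) hg

/-- In characteristic `2`, an element of `SL₂` with a non-zero fixed vector is an involution. -/
theorem sq_eq_one_of_fix {F : Type*} [Field F] (h2 : (2 : F) = 0)
    (x : Matrix.SpecialLinearGroup (Fin 2) F) {v : Fin 2 → F} (hv : v ≠ 0)
    (hx : (x : Matrix (Fin 2) (Fin 2) F).mulVec v = v) : x * x = 1 := by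
  obtain ⟨m, hdet⟩ := x
  have hd : m 0 0 * m 1 1 - m 0 1 * m 1 0 = 1 := by
    rw [← Matrix.det_fin_two]
    exact hdet
  have e0 := congrFun hx 0
  have e1 := congrFun hx 1
  simp only [Matrix.mulVec, dotProduct, Fin.sum_univ_two] at e0 e1
  have hD : (m 0 0 - 1) * (m 1 1 - 1) - m 0 1 * m 1 0 = 0 := by
    by_cases hv0 : v 0 = 0
    · have hv1 : v 1 ≠ 0 := by
        intro h
        apply hv
        ext i
        fin_cases i
        · exact hv0
        · exact h
      apply mul_right_cancel₀ hv1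
      rw [zero_mul]
      rw [hv0] at e0 e1
      linear_combination (m 0 0 - 1) * e1 - m 1 0 * e0
    · apply mul_right_cancel₀ hv0
      rw [zero_mul]
      linear_combination (m 1 1 - 1) * e0 - m 0 1 * e1
  have htr : m 0 0 + m 1 1 = 0 := by
    linear_combination hd - hD + h2
  apply Subtype.ext
  change m * m = 1
  ext i j
  fin_cases i <;> fin_cases j <;>
    simp only [Matrix.mul_apply, Fin.sum_univ_two, Matrix.one_apply, Fin.zero_eta, Fin.mk_one,
      Fin.isValue, if_true, if_false, one_ne_zero, zero_ne_one]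
  · linear_combination m 0 0 * htr - hd - h2
  · linear_combination m 0 1 * htr
  · linear_combination m 1 0 * htr
  · linear_combination m 1 1 * htr - hd - h2

/-- An abelian subgroup of odd order of `PSL₂` in characteristic `2` is cyclic. -/
theorem cyclic_of_psl2 {F : Type*} [Field F] [Fintype F] (h2 : (2 : F) = 0)
    {G : Type*} [Group G] [Finite G] (φ : G ≃* Matrix.ProjectiveSpecialLinearGroup (Fin 2) F)
    (M : Subgroup G) (hodd : Odd (Nat.card M)) (hcomm : ∀ x ∈ M, ∀ y ∈ M, x * y = y * x) :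
    IsCyclic M := by
  classical
  have hcenter : Subgroup.center (Matrix.SpecialLinearGroup (Fin 2) F) = ⊥ := by
    rw [Subgroup.eq_bot_iff_forall]
    intro A hA
    rw [Matrix.SpecialLinearGroup.mem_center_iff] at hA
    obtain ⟨r, hr, hrA⟩ := hA
    have hr1 : r = 1 := by
      have h3 : (r - 1) * (r - 1) = 0 := by
        simp only [Fintype.card_fin] at hr
        linear_combination hr - r * h2 + h2
      have h4 := mul_self_eq_zero.mp h3
      exact sub_eq_zero.mp h4
    apply Subtype.ext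
    rw [← hrA, hr1]
    simp
  let π : Matrix.SpecialLinearGroup (Fin 2) F →* Matrix.ProjectiveSpecialLinearGroup (Fin 2) F :=
    QuotientGroup.mk' (Subgroup.center (Matrix.SpecialLinearGroup (Fin 2) F))
  have hπ : Function.Bijective π := by
    refine ⟨?_, QuotientGroup.mk'_surjective _⟩
    rw [injective_iff_map_eq_one]
    intro A hA
    have h3 : A ∈ Subgroup.center (Matrix.SpecialLinearGroup (Fin 2) F) :=
      (QuotientGroup.eq_one_iff A).mp hA
    rw [hcenter] at h3
    exact h3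
  let e := MulEquiv.ofBijective π hπ
  let ψ : M →* Matrix.SpecialLinearGroup (Fin 2) F :=
    e.symm.toMonoidHom.comp (φ.toMonoidHom.comp M.subtype)
  have hψ : Function.Injective ψ := by
    intro a b h
    have h1 := e.symm.injective h
    have h2 := φ.injective h1
    exact Subtype.ext h2
  let ρ : M →* AddMonoid.End (Fin 2 → F) :=
    { toFun := fun a => (Matrix.mulVecLin ((ψ a : Matrix.SpecialLinearGroup (Fin 2) F) :
          Matrix (Fin 2) (Fin 2) F)).toAddMonoidHom
      map_one' := by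
        refine AddMonoidHom.ext fun v => ?_
        simp
        rfl
      map_mul' := by
        intro a b
        refine AddMonoidHom.ext fun v => ?_
        change ((ψ (a * b) : Matrix.SpecialLinearGroup (Fin 2) F) : Matrix (Fin 2) (Fin 2) F).mulVec v =
          ((ψ a : Matrix.SpecialLinearGroup (Fin 2) F) : Matrix (Fin 2) (Fin 2) F).mulVec
            (((ψ b : Matrix.SpecialLinearGroup (Fin 2) F) : Matrix (Fin 2) (Fin 2) F).mulVec v)
        rw [map_mul, Matrix.mulVec_mulVec]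
        rfl }
  have hfpf : IsFPF ρ := by
    intro a ha w hw
    by_contra hw0
    have h3 : ((ψ a : Matrix.SpecialLinearGroup (Fin 2) F) : Matrix (Fin 2) (Fin 2) F).mulVec w = w := hw
    have h4 := sq_eq_one_of_fix h2 (ψ a) hw0 h3
    have h5 : ψ (a * a) = ψ 1 := by
      rw [map_mul, h4, map_one]
    have h6 := hψ h5
    apply ha
    have h7 : orderOf a ∣ 2 := orderOf_dvd_of_pow_eq_one (by rw [pow_two]; exact h6)
    have h8 : orderOf a ∣ Nat.card M := orderOf_dvd_natCard a
    have h9 := Nat.dvd_gcd h7 h8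
    rw [(Nat.coprime_two_left).mpr hodd, Nat.dvd_one, orderOf_eq_one_iff] at h9
    exact h9
  exact isCyclic_of_comm hfpf (fun a b => Subtype.ext (hcomm a a.2 b b.2))

end General

variable {G : Type*} [Group G] [Finite G] {M : Subgroup G} {z : G}

/-- The normaliser of `C(z)`. -/
abbrev BB (z : G) : Subgroup G := Subgroup.normalizer (KK z : Set G)

theorem KK_le_BB (z : G) : KK z ≤ BB z := Subgroup.le_normalizer

variable (H : Hyp M z) (S : Star M)
variable (hC : ∀ c ∈ NN M, c * z = z * c → c = 1 ∨ c = z)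
variable {q : ℕ} (hq : Nat.card (KK z) = q) (hq4 : 4 ≤ q) (hm : Nat.card M = q + 1)
  (hG : Nat.card G = (q + 1) * q * (q - 1)) (hI : Nat.card (II G) = (q + 1) * (q - 1))

include H S hC hq hq4 hm hG hI

/-- Every involution is conjugate to `z`. -/
theorem allJ {t : G} (ht2 : t * t = 1) (ht1 : t ≠ 1) : ∃ g : G, t = g * z * g⁻¹ := by
  classical
  have hJ := card_conj_mul z
  rw [hq, hG] at hJ
  have hJ1 : Nat.card {t : G // ∃ g : G, t = g * z * g⁻¹} = (q + 1) * (q - 1) := by
    apply Nat.eq_of_mul_eq_mul_right (show 0 < q by omega)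
    rw [hJ]
    ring
  have hJ2 : Nat.card {t : II G // ∃ g : G, t.1 = g * z * g⁻¹} = (q + 1) * (q - 1) := by
    rw [← hJ1]
    refine Nat.card_congr ⟨fun t => ⟨t.1.1, t.2⟩, fun t => ⟨⟨t.1, ?_⟩, t.2⟩, ?_, ?_⟩
    · obtain ⟨t, g, rfl⟩ := t
      apply orderOf_eq_prime
      · rw [pow_two]
        have : g * z * g⁻¹ * (g * z * g⁻¹) = g * (z * z) * g⁻¹ := by group
        rw [this, H.z2]
        group
      · intro h
        apply H.z1
        have h' : g * z * g⁻¹ = 1 := h
        have : z = g⁻¹ * (g * z * g⁻¹) * g := by group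
        rw [this, h']
        group
    · intro t
      rfl
    · intro t
      rfl
  have h1 := card_split (fun t : II G => ∃ g : G, t.1 = g * z * g⁻¹)
  rw [hJ2, hI] at h1
  have h0 : Nat.card {t : II G // ¬ ∃ g : G, t.1 = g * z * g⁻¹} = 0 := by omega
  by_contra hc
  have ho : orderOf t = 2 := orderOf_eq_prime (by rw [pow_two]; exact ht2) ht1
  haveI : Nonempty {t : II G // ¬ ∃ g : G, t.1 = g * z * g⁻¹} := ⟨⟨⟨t, ho⟩, hc⟩⟩
  have : 0 < Nat.card {t : II G // ¬ ∃ g : G, t.1 = g * z * g⁻¹} := Nat.card_pos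
  omega

/-- `C(t) = C(z)` for `t ∈ C(z)#`. -/
theorem cent_eq {t x : G} (ht : t * z = z * t) (ht1 : t ≠ 1) (hx : x * t = t * x) :
    x * z = z * x := by
  classical
  obtain ⟨g, hg⟩ := allJ H S hC hq hq4 hm hG hI (K_all_sq H S hC ht) ht1
  have hle : KK z ≤ KK t := by
    intro y hy
    rw [mem_KK] at hy ⊢
    exact K_comm H S hC hy ht
  have hcard : Nat.card (KK t) ≤ Nat.card (KK z) := by
    refine Nat.card_le_card_of_injective
      (fun y : KK t => (⟨g⁻¹ * y.1 * g, ?_⟩ : KK z)) ?_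
    · rw [mem_KK]
      have hy : (y : G) * (g * z * g⁻¹) = (g * z * g⁻¹) * y := by
        rw [← hg]
        exact mem_KK.mp y.2
      have e : g⁻¹ * y.1 * g * z = g⁻¹ * (y.1 * (g * z * g⁻¹)) * g := by group
      rw [e, hy]
      group
    · intro a b e
      have e1 : g⁻¹ * a.1 * g = g⁻¹ * b.1 * g := congrArg Subtype.val e
      have e2 : a.1 = b.1 := by
        have := congrArg (fun w => g * w * g⁻¹) e1
        simpa [mul_assoc] using this
      exact Subtype.ext e2
  have heq := Subgroup.eq_of_le_of_card_ge hle hcard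
  have hxt : x ∈ KK t := mem_KK.mpr hx
  rw [← heq] at hxt
  exact mem_KK.mp hxt

/-- `C(z)` is a TI-subgroup. -/
theorem ti_K {k u : G} (hk : k * z = z * k) (hk1 : k ≠ 1) (hu : (u⁻¹ * k * u) * z = z * (u⁻¹ * k * u)) :
    u ∈ BB z := by
  have hk'1 : u⁻¹ * k * u ≠ 1 := by
    intro h
    apply hk1
    have : k = u * (u⁻¹ * k * u) * u⁻¹ := by group
    rw [this, h]
    group
  rw [Subgroup.mem_normalizer_iff]
  intro x
  constructor
  · intro hx
    have hx' : (x : G) ∈ KK z := hx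
    rw [mem_KK] at hx'
    show u * x * u⁻¹ ∈ KK z
    rw [mem_KK]
    -- `x` commutes with `u⁻¹ k u`
    have h1 : x * (u⁻¹ * k * u) = (u⁻¹ * k * u) * x := K_comm H S hC hx' hu
    have h2 : (u * x * u⁻¹) * k = k * (u * x * u⁻¹) := by
      have e1 : (u * x * u⁻¹) * k = u * (x * (u⁻¹ * k * u)) * u⁻¹ := by group
      rw [e1, h1]
      group
    exact cent_eq H S hC hq hq4 hm hG hI hk hk1 h2
  · intro hx
    have hx' : u * x * u⁻¹ ∈ KK z := hx
    rw [mem_KK] at hx'
    show x ∈ KK z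
    rw [mem_KK]
    have h1 : (u * x * u⁻¹) * k = k * (u * x * u⁻¹) := K_comm H S hC hx' hk
    have h2 : x * (u⁻¹ * k * u) = (u⁻¹ * k * u) * x := by
      have e1 : x * (u⁻¹ * k * u) = u⁻¹ * ((u * x * u⁻¹) * k) * u := by group
      rw [e1, h1]
      group
    exact cent_eq H S hC hq hq4 hm hG hI hu hk'1 h2

/-- Involutions of the normaliser lie in `C(z)`. -/
theorem B_inv {t : G} (htB : t ∈ BB z) (ht2 : t * t = 1) : t * z = z * t := by
  have hti : t⁻¹ = t := inv_self_of_sq ht2
  have h1 : t * z * t ∈ KK z := by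
    have := (Subgroup.mem_normalizer_iff.mp htB z).mp (by
      show z ∈ KK z
      exact mem_KK.mpr rfl)
    rwa [hti] at this
  have h1' := mem_KK.mp h1
  obtain ⟨k, hk⟩ : ∃ k, k = z * (t * z * t) := ⟨_, rfl⟩
  have hkz : k * z = z * k := by
    rw [hk]
    calc z * (t * z * t) * z = z * ((t * z * t) * z) := by group
      _ = z * (z * (t * z * t)) := by rw [h1']
  have h2 : t * k = k * t := by
    rw [hk]
    calc t * (z * (t * z * t)) = ((t * z * t) * z) * t := by group
      _ = (z * (t * z * t)) * t := by rw [h1']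
  by_cases hk1 : k = 1
  · have h3 : t * z * t = z := by
      have h4 : z * (t * z * t) = 1 := by rw [← hk]; exact hk1
      have h5 : t * z * t = z⁻¹ := eq_inv_of_mul_eq_one_right h4
      rw [h5, inv_self_of_sq H.z2]
    calc t * z = (t * z * t) * t := by rw [mul_assoc (t * z), ht2, mul_one]
      _ = z * t := by rw [h3]
  · exact cent_eq H S hC hq hq4 hm hG hI hkz hk1 h2

/-- An element of `C(z)` fixing a point outside `∞` is trivial. -/
theorem K_free {u k : G} (hu : u ∉ BB z) (hk : k * z = z * k) (h : u⁻¹ * k * u ∈ BB z) : k = 1 := by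
  by_contra hk1
  apply hu
  have hk2 := K_all_sq H S hC hk
  have h1 : (u⁻¹ * k * u) * (u⁻¹ * k * u) = 1 := by
    have : (u⁻¹ * k * u) * (u⁻¹ * k * u) = u⁻¹ * (k * k) * u := by group
    rw [this, hk2]
    group
  exact ti_K H S hC hq hq4 hm hG hI hk hk1 (B_inv H S hC hq hq4 hm hG hI h h1)

/-- The order of the normaliser. -/
theorem card_BB : Nat.card (BB z) = (q - 1) * q := by
  classical
  let z' : BB z := ⟨z, KK_le_BB z (mem_KK.mpr rfl)⟩
  have h0 := card_conj_mul z'
  have h1 : Nat.card (KK z') = q := by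
    rw [← hq]
    refine Nat.card_congr ⟨fun x => ⟨x.1.1, ?_⟩, fun x => ⟨⟨x.1, KK_le_BB z x.2⟩, ?_⟩, ?_, ?_⟩
    · have hx := mem_KK.mp x.2
      exact mem_KK.mpr (congrArg Subtype.val hx)
    · apply mem_KK.mpr
      exact Subtype.ext (mem_KK.mp x.2)
    · intro x
      rfl
    · intro x
      rfl
  have h2 : Nat.card {t : BB z // ∃ g : BB z, t = g * z' * g⁻¹} = q - 1 := by
    have h3 : Nat.card {k : KK z // ¬ k = 1} = q - 1 := by
      have h4 := card_split (fun k : KK z => k = 1)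
      rw [hq] at h4
      have h5 : Nat.card {k : KK z // k = 1} = 1 := by simp
      omega
    rw [← h3]
    refine Nat.card_congr ⟨fun t => ⟨⟨t.1.1, ?_⟩, ?_⟩, fun k => ⟨⟨k.1.1, KK_le_BB z k.1.2⟩, ?_⟩, ?_, ?_⟩
    · obtain ⟨⟨t, ht⟩, ⟨g, hg⟩, e⟩ := t
      have e1 : t = g * z * g⁻¹ := congrArg Subtype.val e
      change t ∈ KK z
      rw [e1]
      have := (Subgroup.mem_normalizer_iff.mp hg z).mp (mem_KK.mpr rfl)
      exact this
    · obtain ⟨⟨t, ht⟩, ⟨g, hg⟩, e⟩ := t
      have e1 : t = g * z * g⁻¹ := congrArg Subtype.val e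
      intro hone
      have e2 : t = 1 := congrArg (fun x : KK z => (x : G)) hone
      apply H.z1
      have : z = g⁻¹ * t * g := by rw [e1]; group
      rw [this, e2]
      group
    · have hk1 : (k.1 : G) ≠ 1 := fun h => k.2 (Subtype.ext h)
      have hkz := mem_KK.mp k.1.2
      obtain ⟨g, hg⟩ := allJ H S hC hq hq4 hm hG hI (K_all_sq H S hC hkz) hk1
      have hgB : g ∈ BB z := by
        apply ti_K H S hC hq hq4 hm hG hI hkz hk1
        have e : g⁻¹ * (k.1 : G) * g = z := by
          rw [hg]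
          group
        rw [e]
      refine ⟨⟨g, hgB⟩, Subtype.ext hg⟩
    · intro t
      rfl
    · intro k
      rfl
  rw [h1, h2] at h0
  exact h0.symm

/-- The number of points. -/
theorem index_BB : (BB z).index = q + 1 := by
  have h1 := Subgroup.card_mul_index (BB z)
  rw [card_BB H S hC hq hq4 hm hG hI, hG] at h1
  apply Nat.eq_of_mul_eq_mul_left (show 0 < (q - 1) * q by
    apply Nat.mul_pos <;> omega)
  rw [h1]
  ring

/-- An element of `B` fixing two further points of `G ⧸ B` is trivial. -/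
theorem sharp_pt {g u v : G} (hg : g ∈ BB z) (hu : u ∉ BB z) (hv : v ∉ BB z)
    (huv : (QuotientGroup.mk u : G ⧸ BB z) ≠ QuotientGroup.mk v)
    (h1 : u⁻¹ * g * u ∈ BB z) (h2 : v⁻¹ * g * v ∈ BB z) : g = 1 := by
  classical
  -- the transitivity of `K` on the other points
  have htr : ∃ k : G, k * z = z * k ∧ (QuotientGroup.mk (k * u) : G ⧸ BB z) = QuotientGroup.mk v := by
    let Φ : KK z → {w : G ⧸ BB z // w ≠ QuotientGroup.mk 1} := fun k =>
      ⟨QuotientGroup.mk (k.1 * u), by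
        intro h
        rw [eq_comm, QuotientGroup.eq] at h
        apply hu
        have h3 : (k.1 : G) * u ∈ BB z := by simpa using h
        have := mul_mem (inv_mem (KK_le_BB z k.2)) h3
        rwa [inv_mul_cancel_left] at this⟩
    have hΦ : Function.Injective Φ := by
      intro a b e
      have e1 : (QuotientGroup.mk (a.1 * u) : G ⧸ BB z) = QuotientGroup.mk (b.1 * u) :=
        congrArg Subtype.val e
      rw [QuotientGroup.eq] at e1
      have e2 : (a.1 * u)⁻¹ * (b.1 * u) = u⁻¹ * (a.1⁻¹ * b.1) * u := by group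
      rw [e2] at e1
      have hk : (a.1⁻¹ * b.1) * z = z * (a.1⁻¹ * b.1) :=
        mem_KK.mp (mul_mem (inv_mem a.2) b.2)
      have h3 := K_free H S hC hq hq4 hm hG hI hu hk e1
      rw [inv_mul_eq_one] at h3
      exact Subtype.ext h3
    have hcardΩ : Nat.card {w : G ⧸ BB z // w ≠ QuotientGroup.mk 1} = q := by
      have h4 := card_split (fun w : G ⧸ BB z => w = QuotientGroup.mk 1)
      have h5 : Nat.card {w : G ⧸ BB z // w = QuotientGroup.mk 1} = 1 := by simp
      have h6 : Nat.card (G ⧸ BB z) = q + 1 := index_BB H S hC hq hq4 hm hG hI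
      have h7 : Nat.card {w : G ⧸ BB z // w ≠ QuotientGroup.mk 1} =
          Nat.card {w : G ⧸ BB z // ¬ w = QuotientGroup.mk 1} := rfl
      omega
    have hb : Function.Bijective Φ :=
      hΦ.bijective_of_nat_card_le (by rw [hcardΩ, hq])
    have hvne : (QuotientGroup.mk v : G ⧸ BB z) ≠ QuotientGroup.mk 1 := by
      intro h
      rw [eq_comm, QuotientGroup.eq] at h
      apply hv
      simpa using h
    obtain ⟨k, hk⟩ := hb.2 ⟨_, hvne⟩
    exact ⟨k.1, mem_KK.mp k.2, congrArg Subtype.val hk⟩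
  obtain ⟨k, hk, hkv⟩ := htr
  have hk1 : k ≠ 1 := by
    intro h
    rw [h, one_mul] at hkv
    exact huv hkv
  -- `k⁻¹ g k` fixes `u`
  have h3 : u⁻¹ * (k⁻¹ * g * k) * u ∈ BB z := by
    rw [QuotientGroup.eq] at hkv
    have hc := hkv
    set b := (k * u)⁻¹ * v with hb
    have hbB : b ∈ BB z := hc
    have e : k * u = v * b⁻¹ := by rw [hb]; group
    have e2 : u⁻¹ * (k⁻¹ * g * k) * u = (k * u)⁻¹ * g * (k * u) := by group
    rw [e2, e]
    have e3 : (v * b⁻¹)⁻¹ * g * (v * b⁻¹) = b * (v⁻¹ * g * v) * b⁻¹ := by group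
    rw [e3]
    exact mul_mem (mul_mem hbB h2) (inv_mem hbB)
  set w := k⁻¹ * (g * k * g⁻¹) with hw
  have hwK : w * z = z * w := by
    have hkK : k ∈ KK z := mem_KK.mpr hk
    have h4 : g * k * g⁻¹ ∈ KK z := (Subgroup.mem_normalizer_iff.mp hg k).mp hkK
    exact mem_KK.mp (mul_mem (inv_mem hkK) h4)
  have hw1 : w = 1 := by
    apply K_free H S hC hq hq4 hm hG hI hu hwK
    have e4 : u⁻¹ * w * u = (u⁻¹ * (k⁻¹ * g * k) * u) * (u⁻¹ * g * u)⁻¹ := by
      rw [hw]
      group
    rw [e4]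
    exact mul_mem h3 (inv_mem h1)
  have hcomm : g * k = k * g := by
    have h5 : k⁻¹ * (g * k * g⁻¹) = 1 := hw1
    have h6 : g * k * g⁻¹ = k := by
      rw [inv_mul_eq_one] at h5
      exact h5.symm
    rw [mul_inv_eq_iff_eq_mul] at h6
    exact h6
  have hgK : g * z = z * g := cent_eq H S hC hq hq4 hm hG hI hk hk1 hcomm
  exact K_free H S hC hq hq4 hm hG hI hu hgK h1

/-- The point `(G ⧸ B)`-action is sharp. -/
theorem sharp_all {x y w : G ⧸ BB z} {g₀ : G}
    (hxy : x ≠ y) (hyw : y ≠ w) (hxw : x ≠ w) (h1 : g₀ • x = x) (h2 : g₀ • y = y) (h3 : g₀ • w = w) :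
    g₀ = 1 := by
  induction x using QuotientGroup.induction_on with | H x => ?_
  induction y using QuotientGroup.induction_on with | H y => ?_
  induction w using QuotientGroup.induction_on with | H w => ?_
  have h1' : (QuotientGroup.mk (g₀ * x) : G ⧸ BB z) = QuotientGroup.mk x := h1
  have h2' : (QuotientGroup.mk (g₀ * y) : G ⧸ BB z) = QuotientGroup.mk y := h2
  have h3' : (QuotientGroup.mk (g₀ * w) : G ⧸ BB z) = QuotientGroup.mk w := h3
  rw [eq_comm, QuotientGroup.eq] at h1' h2' h3'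
  have hg : x⁻¹ * (g₀ * x) ∈ BB z := h1'
  have hu : x⁻¹ * y ∉ BB z := by
    intro hc
    exact hxy (QuotientGroup.eq.mpr hc)
  have hv : x⁻¹ * w ∉ BB z := by
    intro hc
    exact hxw (QuotientGroup.eq.mpr hc)
  have huv : (QuotientGroup.mk (x⁻¹ * y) : G ⧸ BB z) ≠ QuotientGroup.mk (x⁻¹ * w) := by
    intro hc
    rw [QuotientGroup.eq] at hc
    apply hyw
    rw [QuotientGroup.eq]
    have e : (x⁻¹ * y)⁻¹ * (x⁻¹ * w) = y⁻¹ * w := by group
    rwa [e] at hc
  have hg1 : x⁻¹ * g₀ * x = 1 := by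
    apply sharp_pt H S hC hq hq4 hm hG hI (u := x⁻¹ * y) (v := x⁻¹ * w) _ hu hv huv
    · have e : (x⁻¹ * y)⁻¹ * (x⁻¹ * g₀ * x) * (x⁻¹ * y) = y⁻¹ * (g₀ * y) := by group
      rw [e]
      exact h2'
    · have e : (x⁻¹ * w)⁻¹ * (x⁻¹ * g₀ * x) * (x⁻¹ * w) = w⁻¹ * (g₀ * w) := by group
      rw [e]
      exact h3'
    · have e : x⁻¹ * g₀ * x = x⁻¹ * (g₀ * x) := by group
      rw [e]
      exact hg
  have : g₀ = x * (x⁻¹ * g₀ * x) * x⁻¹ := by group
  rw [this, hg1]
  group

/-- The action is sharply three-transitive. -/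
theorem sharp3_A2 : Sharp3 G (G ⧸ BB z) := by
  have hc : Nat.card (G ⧸ BB z) = q + 1 := index_BB H S hC hq hq4 hm hG hI
  apply sharp3_of_card
  · intro g a b c hab hbc hac h1 h2 h3
    exact sharp_all H S hC hq hq4 hm hG hI hab hbc hac h1 h2 h3
  · rw [hc, hG]
    rfl

omit hq4 hm hG hI hq in
/-- The main conclusion of the case. -/
theorem caseA2 {d : ℕ} (hd : 1 ≤ d) (hq' : Nat.card (KK z) = 2 ^ (d + 1))
    (hm' : Nat.card M = 2 ^ (d + 1) + 1)
    (hG' : Nat.card G = 2 * Nat.card M * (1 + (2 ^ d - 1) * Nat.card M))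
    (hI' : Nat.card (II G) = Nat.card M * (2 * 2 ^ d - 1)) :
    ∃ (F : Type) (_ : Field F) (_ : Fintype F) (e : ℕ), 1 < e ∧ Fintype.card F = 2 ^ e ∧
      IsCyclic M ∧ Nat.card M = 2 ^ e + 1 ∧
      Nonempty (G ≃* Matrix.ProjectiveSpecialLinearGroup (Fin 2) F) := by
  classical
  have hp : 2 ≤ 2 ^ d := by
    calc 2 = 2 ^ 1 := rfl
      _ ≤ 2 ^ d := Nat.pow_le_pow_right (by norm_num) hd
  obtain ⟨g, hg⟩ : ∃ g, 2 ^ d = g + 1 := ⟨2 ^ d - 1, by omega⟩
  have e1 : 2 ^ d - 1 = g := by omega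
  have e2 : 2 ^ (d + 1) = 2 * g + 2 := by
    rw [pow_succ, hg]
    ring
  rw [e2] at hq' hm'
  rw [e1, hm'] at hG'
  rw [hm', hg] at hI'
  have hq4 : 4 ≤ 2 * g + 2 := by omega
  have hG2 : Nat.card G = (2 * g + 2 + 1) * (2 * g + 2) * (2 * g + 2 - 1) := by
    rw [hG']
    have : 2 * g + 2 - 1 = 2 * g + 1 := by omega
    rw [this]
    ring
  have hI2 : Nat.card (II G) = (2 * g + 2 + 1) * (2 * g + 2 - 1) := by
    rw [hI']
    have h1 : 2 * g + 2 - 1 = 2 * g + 1 := by omega
    have h2 : 2 * (g + 1) - 1 = 2 * g + 1 := by omega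
    rw [h1, h2]
  have S3 : Sharp3 G (G ⧸ BB z) := sharp3_A2 H S hC hq' hq4 hm' hG2 hI2
  have hc : Nat.card (G ⧸ BB z) = 2 * g + 2 + 1 := index_BB H S hC hq' hq4 hm' hG2 hI2
  haveI : Fintype (G ⧸ BB z) := Fintype.ofFinite _
  have hc' : 2 < Fintype.card (G ⧸ BB z) := by
    rw [← Nat.card_eq_fintype_card, hc]
    omega
  obtain ⟨a, b, c, hab, hac, hbc⟩ := Fintype.two_lt_card_iff.mp hc'
  have faith : ∀ g g' : G, (∀ y : G ⧸ BB z, g • y = g' • y) → g = g' := by
    intro x x' h
    have h1 : ∀ y : G ⧸ BB z, (x'⁻¹ * x) • y = y := by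
      intro y
      rw [mul_smul, h y, inv_smul_smul]
    have h2 := S3.sharp (x'⁻¹ * x) a b c hab hbc hac (h1 a) (h1 b) (h1 c)
    rw [inv_mul_eq_one] at h2
    exact h2.symm
  obtain ⟨A, iA, iF, R, p, j, hR1, hR2, hpp, hj, hcard, hcA, hexp⟩ :=
    S3.exists_rootData faith (inf := a) (o := b) (c := c) (Ne.symm hab) (Ne.symm hac) hbc
  have hpj : p ^ j = 2 ^ (d + 1) := by
    rw [← Nat.card_eq_fintype_card, hc] at hcard
    rw [e2]
    omega
  have hp2 : p = 2 := by
    have h2 : p ∣ 2 ^ (d + 1) := by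
      rw [← hpj]
      exact dvd_pow_self p (by omega)
    exact (Nat.prime_dvd_prime_iff_eq hpp Nat.prime_two).mp (hpp.dvd_of_dvd_pow h2)
  subst hp2
  have hneg : ∀ x : A, -x = x := by
    intro x
    have := hexp x
    rw [two_nsmul] at this
    exact neg_eq_of_add_eq_zero_left this
  have hnt : Nontrivial A := by
    apply Finite.one_lt_card_iff_nontrivial.mp
    rw [hcA, hpj, e2]
    omega
  obtain ⟨x, hx⟩ := exists_ne (0 : A)
  obtain ⟨K, i1, i2, hK, ⟨φ⟩⟩ := Cfsg.Agent.Lib.Zass.PrimeDeg.main_two S3 R hneg hx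
  have hK2 : Fintype.card K = 2 ^ (d + 1) := by
    rw [hK, hcA, hpj]
  have hchar : ringChar K = 2 := by
    apply FiniteField.even_card_iff_char_two.mpr
    rw [hK2]
    exact Nat.even_iff.mp (Nat.even_pow.mpr ⟨even_two, by omega⟩)
  obtain ⟨ψ⟩ := Cfsg.Agent.Lib.Zass.Classif.pgl_equiv_psl hchar
  have h20 : (2 : K) = 0 := by
    have := ringChar.spec K 2
    rw [hchar] at this
    exact_mod_cast this.mpr dvd_rfl
  have hcyc : IsCyclic M := cyclic_of_psl2 h20 (φ.trans ψ) M (odd_M H) (fun x hx y hy => comm_M H hx hy)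
  refine ⟨K, i1, i2, d + 1, by omega, hK2, hcyc, ?_, ⟨φ.trans ψ⟩⟩
  rw [hm', e2]

end Cfsg.Agent.Lib.TIInv
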