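import Cfsg.Agent.Lib.TIInv.CaseB
import Cfsg.Agent.Lib.Zass.Classif
import Cfsg.Agent.Lib.Zass.Sharp3Odd
import Cfsg.Agent.Lib.Zass.RootPSL
import Cfsg.Agent.Lib.Zass.RootFinal
import Cfsg.Agent.S0741
import Cfsg.Agent.S0738
import Cfsg.Prelude.Def_Transfer

/-!
The end of the branch: `G` is `PGL₂` or `PSL₂` of a field of size `|M|`.
-/

set_option autoImplicit false
set_option linter.unusedSectionVars false
set_option linter.style.haveILetI false
set_option linter.unusedVariables false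

namespace Cfsg.Agent.Lib.TIInv

open MulAction
open Cfsg.Agent.Lib.Zass.Sharp3 Cfsg.Agent.Lib.Zass.Root

/-- Sharp triple transitivity from the multiple-transitivity class. -/
theorem sharp3_of_pre {G Ω : Type*} [Group G] [MulAction G Ω]
    (h3 : IsMultiplyPretransitive G Ω 3)
    (hs : ∀ (g : G) (a b c : Ω), a ≠ b → b ≠ c → a ≠ c → g • a = a → g • b = b → g • c = c → g = 1) :
    Sharp3 G Ω := by
  refine ⟨?_, hs⟩
  intro x y w x' y' w' hxy hyw hxw hxy' hyw' hxw'
  let t₁ : Fin 3 ↪ Ω := ⟨![x, y, w], by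
    intro i j hij
    fin_cases i <;> fin_cases j <;> simp_all⟩
  let t₂ : Fin 3 ↪ Ω := ⟨![x', y', w'], by
    intro i j hij
    fin_cases i <;> fin_cases j <;> simp_all⟩
  obtain ⟨g, hg⟩ := h3.exists_smul_eq t₁ t₂
  refine ⟨g, ?_, ?_, ?_⟩
  · exact congrArg (fun w : Fin 3 ↪ Ω => w 0) hg
  · exact congrArg (fun w : Fin 3 ↪ Ω => w 1) hg
  · exact congrArg (fun w : Fin 3 ↪ Ω => w 2) hg

/-- The characteristic of a field of prime power order. -/
theorem charP_of_card_pow {F : Type*} [Field F] [Fintype F] {p f : ℕ} (hp : p.Prime) (hf : f ≠ 0)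
    (h : Fintype.card F = p ^ f) : CharP F p := by
  obtain ⟨q, hq⟩ := CharP.exists F
  haveI := hq
  obtain ⟨n, hqp, hn⟩ := FiniteField.card F q
  have h1 : q ∣ p ^ f := by
    rw [← h, hn]
    exact dvd_pow_self q n.pos.ne'
  have h2 := (Nat.prime_dvd_prime_iff_eq hqp hp).mp (hqp.dvd_of_dvd_pow h1)
  rw [← h2]
  exact hq

variable {G : Type*} [Group G] [Finite G] {M : Subgroup G} {z : G}
variable (H : Hyp M z) (S : Star M)
variable (hB : ∀ h k, h * z = z * h → h ∉ NN M → k * z = z * k → k ∉ NN M → h * k ∈ NN M)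

include H S hB

/-- The conclusion of the branch. -/
theorem caseB (hN0 : NN M ≠ ⊤) (hc : ∃ c ∈ NN M, c * z = z * c ∧ c ≠ 1 ∧ c ≠ z) :
    ∃ (F : Type) (_ : Field F) (_ : Fintype F) (p : ℕ) (_ : Fact p.Prime) (_ : CharP F p),
      Fintype.card F = Nat.card M ∧ Cfsg.IsElementaryAbelian p M ∧
        (Nonempty (G ≃* (GL (Fin 2) F ⧸ Subgroup.center (GL (Fin 2) F))) ∨
         (Fintype.card F % 4 = 1 ∧ Nonempty (G ≃* Matrix.ProjectiveSpecialLinearGroup (Fin 2) F))) := by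
  classical
  haveI := Fintype.ofFinite G
  obtain ⟨h, hz, hN⟩ := exists_Y H S hN0
  obtain ⟨c, hcN, hcz, hc1, hc2⟩ := hc
  have hC3 : 3 ≤ Nat.card (C0 M z) := by
    haveI := Fintype.ofFinite (C0 M z)
    rw [Nat.card_eq_fintype_card]
    refine Fintype.two_lt_card_iff.mpr ⟨1, ⟨z, mem_C0.mpr ⟨H.zN, rfl⟩⟩, ⟨c, mem_C0.mpr ⟨hcN, hcz⟩⟩, ?_, ?_, ?_⟩
    · intro e
      exact H.z1 (congrArg Subtype.val e).symm
    · intro e
      exact hc1 (congrArg Subtype.val e).symm
    · intro e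
      exact hc2 (congrArg Subtype.val e).symm
  have hm4 := card_C0_le H S hB hz hN
  have hodd := odd_M H
  have hm5 : 5 ≤ Nat.card M := by
    obtain ⟨k, hk⟩ := hodd
    omega
  have hZ := zass_B H S hB hz hN hm5
  haveI : Fintype (G ⧸ NN M) := Fintype.ofFinite _
  have hab : pt0 M ≠ (QuotientGroup.mk h : G ⧸ NN M) := Ne.symm (mk_ne_pt0.mpr hN)
  have hΩ : Fintype.card (G ⧸ NN M) = Nat.card M + 1 := by
    rw [← Nat.card_eq_fintype_card, card_Om H S hB hz hN]
  have hE : Nat.card ↥(stabilizer G (pt0 M) ⊓ stabilizer G (QuotientGroup.mk h : G ⧸ NN M)) =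
      Nat.card (C0 M z) := by
    rw [E_eq H S hB hz hN]
  have hevC : Even (Nat.card (C0 M z)) := by
    have h1 : orderOf (⟨z, mem_C0.mpr ⟨H.zN, rfl⟩⟩ : C0 M z) = 2 := by
      rw [Subgroup.orderOf_mk]
      exact orderOf_eq_prime (by rw [pow_two]; exact H.z2) H.z1
    have h2 := orderOf_dvd_natCard (⟨z, mem_C0.mpr ⟨H.zN, rfl⟩⟩ : C0 M z)
    rw [h1] at h2
    exact even_iff_two_dvd.mpr h2
  have heven : Even (Nat.card ↥(stabilizer G (pt0 M) ⊓ stabilizer G (QuotientGroup.mk h : G ⧸ NN M))) := by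
    rw [hE]
    exact hevC
  have h1raw := Cfsg.Agent.S0741.result hZ hab heven
  have h1 := h1raw
  have h2 := Cfsg.Agent.Lib.Zass.NoSharp.card_E_dvd hZ hab
  change Nat.card ↥(stabilizer G (pt0 M) ⊓ stabilizer G (QuotientGroup.mk h : G ⧸ NN M)) ∣ _ at h2
  rw [hE, hΩ] at h2
  rw [hΩ, hE] at h1
  have hMle : M ≤ stabilizer G (pt0 M) := fun x hx => fix_pt0.mpr (le_NN M hx)
  have hMn : (M.subgroupOf (stabilizer G (pt0 M))).Normal := by
    constructor
    rintro ⟨x, hx⟩ hxM ⟨g, hg⟩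
    rw [Subgroup.mem_subgroupOf] at hxM ⊢
    exact NN_conj (fix_pt0.mp hg) hxM
  have hreg : ∀ y w : G ⧸ NN M, y ≠ pt0 M → w ≠ pt0 M → ∃! u : M, (u : G) • y = w :=
    fun y w hy hw => M_reg H S hB hz hN hy hw
  obtain ⟨hcomm, p, f, hp, hexp, hcard⟩ := Cfsg.Agent.S0738.result hZ hab h1raw M hMle hMn hreg
  haveI : Fact p.Prime := ⟨hp⟩
  have hEA : Cfsg.IsElementaryAbelian p M := ⟨hcomm, hexp⟩
  have hmp : Nat.card M = p ^ f := by
    rw [hΩ] at hcard
    omega
  have hf : f ≠ 0 := by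
    rintro rfl
    rw [pow_zero] at hmp
    omega
  have hcomm' : ∀ x ∈ M, ∀ y ∈ M, x * y = y * x := fun x hx y hy => comm_M H hx hy
  have hFn' : ∀ g : G, g • pt0 M = pt0 M → ∀ u ∈ M, g * u * g⁻¹ ∈ M :=
    fun g hg u hu => NN_conj (fix_pt0.mp hg) hu
  have hreg' : ∀ y, y ≠ pt0 M → ∃! u : M, (u : G) • (QuotientGroup.mk h : G ⧸ NN M) = y :=
    fun y hy => hreg _ y (Ne.symm hab) hy
  -- `|C₀|` divides `|M| - 1` and is at least half of it
  obtain ⟨t, ht⟩ := h2
  have e1 : Nat.card M + 1 - 2 = Nat.card M - 1 := by omega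
  rw [e1] at ht h1
  have ht0 : t ≠ 0 := by
    rintro rfl
    omega
  have ht2 : t ≤ 2 := by
    by_contra hc'
    have h3 : 3 ≤ t := by omega
    have h4 : Nat.card (C0 M z) * 3 ≤ Nat.card (C0 M z) * t := Nat.mul_le_mul_left _ h3
    omega
  have htc : t = 1 ∨ t = 2 := by omega
  rcases htc with rfl | rfl
  · -- the sharply three-transitive case
    rw [mul_one] at ht
    have hd : Nat.card (Cfsg.Agent.Lib.Zass.Stab.E (G := G) (pt0 M) (QuotientGroup.mk h : G ⧸ NN M)) + 2 =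
        Fintype.card (G ⧸ NN M) := by
      change Nat.card ↥(stabilizer G (pt0 M) ⊓ stabilizer G (QuotientGroup.mk h : G ⧸ NN M)) + 2 = _
      rw [hE, hΩ]
      omega
    obtain ⟨h3, -⟩ := Cfsg.Agent.Lib.Zass.AbFinal.sharp3_of_eq hZ hab hd
    have S3 : Sharp3 G (G ⧸ NN M) := sharp3_of_pre h3 hZ.2.2.1
    have faith : ∀ g g' : G, (∀ y : G ⧸ NN M, g • y = g' • y) → g = g' :=
      fun g g' hgg => Cfsg.Agent.Lib.Zass.Basic.eq_of_smul hZ hgg
    obtain ⟨A, instA, R, hR1, hR2, hcA, -, -⟩ :=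
      exists_rootData_of_abelian M hcomm' (Ne.symm hab) (fun u hu => hMle hu) hreg'
        (fun g hg u hu => hFn' g hg u hu) faith hZ.2.2.1
    have _ : Finite A := Nat.finite_of_card_ne_zero (by rw [hcA]; exact Nat.card_pos.ne')
    have hAc1 : 1 < Nat.card A := by
      rw [hcA]
      omega
    haveI : Nontrivial A := Finite.one_lt_card_iff_nontrivial.mp hAc1
    obtain ⟨e, he⟩ := exists_ne (0 : A)
    have hoddA : Odd (Nat.card A) := by
      rw [hcA]
      exact hodd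
    have hodd2 : ∀ x : A, x + x = 0 → x = 0 := fun x hx =>
      Cfsg.Agent.Lib.Zass.PrimeDeg.no_two_torsion hoddA card_nsmul_eq_zero' hx
    obtain ⟨s, hs, hsp, hse⟩ := Cfsg.Agent.Lib.Zass.Sharp3Odd.exists_special S3 he hodd2
    have hinv : ∀ g ∈ R.H, s * g * s = g⁻¹ := by
      intro g hg
      have h4 : s • pt0 M = (QuotientGroup.mk h : G ⧸ NN M) := by
        rw [← hR1, ← hR2]
        exact hs.inf
      have h5 : s • (QuotientGroup.mk h : G ⧸ NN M) = pt0 M := by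
        rw [← hR1, ← hR2]
        exact hs.o
      have h6 : g • pt0 M = pt0 M := by
        rw [← hR1]
        exact hg.1
      have h7 : g • (QuotientGroup.mk h : G ⧸ NN M) = QuotientGroup.mk h := by
        rw [← hR2]
        exact hg.2
      have hsN : s ∉ NN M := by
        intro hc'
        have := fix_pt0.mpr hc'
        rw [h4] at this
        exact hab this.symm
      have hgN : g ∈ NN M := fix_pt0.mp h6
      have hsgs : s * g * s ∈ NN M := by
        apply fix_pt0.mp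
        rw [mul_smul, mul_smul, h4, h7, h5]
      exact swap_inv H S hsN hs.sq hgN hsgs
    have hcH := card_H (R := R) S3 he
    obtain ⟨K, i1, i2, hK, hiso⟩ := Cfsg.Agent.Lib.Zass.RootFinal.final_PGL R hs hsp hinv he hse hcH
    have hK2 : Fintype.card K = Nat.card M := by rw [hK, hcA]
    have hchar : CharP K p := charP_of_card_pow hp hf (by rw [hK2, hmp])
    exact ⟨K, i1, i2, p, inferInstance, hchar, hK2, hEA, Or.inl hiso⟩
  · -- the `PSL₂` case
    have hd : 2 * Nat.card ↥(stabilizer G (pt0 M) ⊓ stabilizer G (QuotientGroup.mk h : G ⧸ NN M)) + 2 =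
        Fintype.card (G ⧸ NN M) := by
      rw [hE, hΩ]
      omega
    obtain ⟨K, i1, i2, -, hK, hiso⟩ := Cfsg.Agent.Lib.Zass.RootPSL.psl_even hZ hab M hcomm' hMle hFn'
      hreg' heven hd
    have hchar : CharP K p := charP_of_card_pow hp hf (by rw [hK, hmp])
    refine ⟨K, i1, i2, p, inferInstance, hchar, hK, hEA, Or.inr ⟨?_, hiso⟩⟩
    rw [hK]
    obtain ⟨k, hk⟩ := hevC
    omega

end Cfsg.Agent.Lib.TIInv
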